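import Cfsg.Agent.Chevalley.Torus

/-!
# The diagonal subgroup scales root elements and normalizes the unipotent subgroups
-/

set_option autoImplicit false

namespace CfsgLib.ChevTorus

open Cfsg.Lie CfsgLib.Chevalley

variable {D : ChevalleyDatum} {F : Type*} [Field F]

/-- The multiplier of `torC D c` on a coordinate. -/
def torVal (c : Fin D.rank → Fˣ) (a : D.Idx) : Fˣ := ∏ k : Fin D.rank, c k ^ wt D k a

theorem coe_torC (c : Fin D.rank → Fˣ) :
    ((torC D c : GL D.Idx F) : Matrix D.Idx D.Idx F) =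
      Matrix.diagonal fun a => (torVal c a : F) := by
  show Matrix.diagonal _ = _
  congr 1
  funext a
  rcases a with i | s <;> simp [torVal]

/-- The scaling of a root element by a general element of the torus. -/
theorem torC_mul_X (hD : Good D) (c : Fin D.rank → Fˣ) (r : Root D) (t : F) :
    torC D c * X hD r t = X hD r ((torVal c (Sum.inr r) : F) * t) * torC D c := by
  apply Units.ext
  ext a b
  rw [Units.val_mul, Units.val_mul, coe_torC, coe_X, coe_X, Matrix.diagonal_mul, Matrix.mul_diagonal]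
  simp only [xR, Matrix.sum_apply, Matrix.smul_apply, Matrix.map_apply, smul_eq_mul,
    Finset.mul_sum, Finset.sum_mul]
  refine Finset.sum_congr rfl fun k _ => ?_
  by_cases hk : E D r k a b = 0
  · simp [hk]
  · have h : torVal c a = torVal c (Sum.inr r) ^ k * torVal c b := by
      simp only [torVal, ← Finset.prod_pow, ← Finset.prod_mul_distrib]
      refine Finset.prod_congr rfl fun i _ => ?_
      rw [hD.wt_of_E_ne_zero r k i hk, zpow_add, ← zpow_natCast, ← zpow_mul, wt_inr,
        mul_comm (k : ℤ), mul_comm]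
    rw [h, Units.val_mul, Units.val_pow_eq_pow_val, mul_pow]
    ring

theorem torC_conj_X (hD : Good D) (c : Fin D.rank → Fˣ) (r : Root D) (t : F) :
    torC D c * X hD r t * (torC D c)⁻¹ = X hD r ((torVal c (Sum.inr r) : F) * t) := by
  rw [torC_mul_X hD, mul_inv_cancel_right]

/-- Elements of the diagonal subgroup scale every root element. -/
theorem exists_scale (hW : GoodWeyl D) {y : GL D.Idx F} (hy : y ∈ D.diagonalSubgroup F)
    (r : Root D) : ∃ e : Fˣ, ∀ t, y * X hW.good r t * y⁻¹ = X hW.good r ((e : F) * t) := by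
  rw [diagonalSubgroup_eq_range hW] at hy
  obtain ⟨c, rfl⟩ := hy
  exact ⟨_, torC_conj_X hW.good c r⟩

/-- A closure of root elements over any set of roots is normalized by the diagonal subgroup. -/
theorem diagonal_le_normalizer (hW : GoodWeyl D) (P : ℕ → Prop) :
    D.diagonalSubgroup F ≤ Subgroup.normalizer
      (Subgroup.closure {g : GL D.Idx F | ∃ (r : ℕ) (t : F), r < D.nroots ∧ P r ∧
        (g : Matrix D.Idx D.Idx F) = D.x F r t} : Set (GL D.Idx F)) := by
  set S : Subgroup (GL D.Idx F) := Subgroup.closure _ with hS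
  have key : ∀ y ∈ D.diagonalSubgroup F, ∀ x ∈ S, y * x * y⁻¹ ∈ S := by
    intro y hy x hx
    induction hx using Subgroup.closure_induction with
    | mem g hg =>
      obtain ⟨r, t, hr, hP, h⟩ := hg
      obtain ⟨e, he⟩ := exists_scale hW hy ⟨r, hr⟩
      rw [(coe_eq_x_iff hW.good hr).1 h, he]
      exact Subgroup.subset_closure ⟨r, _, hr, hP, (coe_eq_x_iff hW.good hr).2 rfl⟩
    | one => simp
    | mul a b _ _ ha hb =>
      rw [show y * (a * b) * y⁻¹ = (y * a * y⁻¹) * (y * b * y⁻¹) by group]
      exact mul_mem ha hb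
    | inv a _ ha =>
      rw [show y * a⁻¹ * y⁻¹ = (y * a * y⁻¹)⁻¹ by group]
      exact inv_mem ha
  intro y hy
  refine Subgroup.mem_normalizer_iff.2 fun x => ⟨key y hy x, fun hx => ?_⟩
  have := key y⁻¹ (inv_mem hy) _ hx
  rwa [show y⁻¹ * (y * x * y⁻¹) * y⁻¹⁻¹ = x by group] at this

theorem diagonal_le_normalizer_pos (hW : GoodWeyl D) :
    D.diagonalSubgroup F ≤ Subgroup.normalizer (D.posUnipotent F : Set (GL D.Idx F)) := by
  have h := diagonal_le_normalizer (F := F) hW D.IsPosRoot
  have e : {g : GL D.Idx F | ∃ (r : ℕ) (t : F), r < D.nroots ∧ D.IsPosRoot r ∧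
      (g : Matrix D.Idx D.Idx F) = D.x F r t} = {g : GL D.Idx F | ∃ (r : ℕ) (t : F), D.IsPosRoot r ∧
      (g : Matrix D.Idx D.Idx F) = D.x F r t} := by
    ext g
    exact ⟨fun ⟨r, t, _, h⟩ => ⟨r, t, h⟩, fun ⟨r, t, h⟩ => ⟨r, t, h.1.1, h⟩⟩
  rw [e] at h
  exact h

theorem posUnipotent_inf_diagonal (hW : GoodWeyl D) :
    D.posUnipotent F ⊓ D.diagonalSubgroup F = ⊥ := by
  rw [eq_bot_iff]
  intro g ⟨hu, hh⟩
  rw [SetLike.mem_coe] at hu hh
  rw [posUnipotent_eq hW.good] at hu
  rw [diagonalSubgroup_eq_range hW] at hh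
  obtain ⟨c, rfl⟩ := hh
  rw [Subgroup.mem_bot]
  have hd := (isLower_of_mem hW.good hu).1
  apply Units.ext
  show ((torC D c : GL D.Idx F) : Matrix D.Idx D.Idx F) = 1
  rw [show (((torHom D F) c : GL D.Idx F) : Matrix D.Idx D.Idx F) =
    ((torC D c : GL D.Idx F) : Matrix D.Idx D.Idx F) from rfl] at hd
  simp only [coe_torC, Matrix.diagonal_apply_eq] at hd
  rw [coe_torC, ← Matrix.diagonal_one]
  exact congrArg _ (funext hd)

theorem coe_prod_list (L : List (List (ℕ × F))) :
    D.wordMat F (L.flatMap id) = (L.map (D.wordMat F)).prod := by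
  induction L with
  | nil => simp [ChevalleyDatum.wordMat]
  | cons l L ih =>
    simp only [ChevalleyDatum.wordMat, List.flatMap_cons, id, List.map_append, List.prod_append,
      List.map_cons, List.prod_cons] at ih ⊢
    rw [ih]

theorem wordMat_append (w w' : List (ℕ × F)) :
    D.wordMat F (w ++ w') = D.wordMat F w * D.wordMat F w' := by
  simp [ChevalleyDatum.wordMat, List.prod_append]

/-- An element of the torus as the word of the fundamental `h` elements. -/
theorem coe_torC_word (hW : GoodWeyl D) (c : Fin D.rank → Fˣ) (c' : ℕ → F)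
    (hc : ∀ k : Fin D.rank, c' k = c k) :
    ((torC D c : GL D.Idx F) : Matrix D.Idx D.Idx F) =
      D.wordMat F ((List.range D.rank).flatMap fun i => D.hWord (D.simple i) (c' i)) := by
  rw [torC_eq_prod hW, ← List.map_coe_finRange_eq_range, List.flatMap_map]
  induction List.finRange D.rank with
  | nil => simp [ChevalleyDatum.wordMat]
  | cons k L ih =>
    rw [List.map_cons, List.prod_cons, List.flatMap_cons, wordMat_append, Units.val_mul, ih,
      coe_hT_eq_hMat hW, hc]
    rfl

end CfsgLib.ChevTorus
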