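import Cfsg.Agent.ChevTorus.Scaling
import Mathlib.Data.Fintype.Perm

/-!
# Generation by root elements of simple roots, and an element exchanging U and V
-/

set_option autoImplicit false

namespace CfsgLib.ChevTorus

open Cfsg.Lie CfsgLib.Chevalley

variable {D : ChevalleyDatum} {F : Type*} [Field F]

theorem nR_mem_monomial (hW : GoodWeyl D) (i : Fin D.rank) :
    (nR hW i : GL D.Idx F) ∈ D.monomialSubgroup F :=
  Subgroup.mem_sup_right (Subgroup.subset_closure ⟨D.simple i, hW.good.simple_lt i.isLt, coe_nR hW i⟩)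

theorem eta_isUnit (hW : GoodWeyl D) (i : Fin D.rank) (r : Root D) :
    ∃ c : Fˣ, (c : F) = (eta D i r : F) := by
  have h : (eta D i r : F) * eta D i r = 1 := by rw [← Int.cast_mul, hW.eta_sq, Int.cast_one]
  exact ⟨⟨_, _, h, h⟩, rfl⟩

theorem X_wPerm_eq (hW : GoodWeyl D) (i : Fin D.rank) (r : Root D) (t : F) :
    X hW.good (wPerm hW i r) t =
      nR hW i * X hW.good r ((eta D i r : F) * t) * (nR hW i)⁻¹ := by
  rw [nR_conj, ← mul_assoc, ← Int.cast_mul, hW.eta_sq, Int.cast_one, one_mul]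

/-- The root elements of the fundamental roots and their negatives generate. -/
theorem group_le_of_simple (hW : GoodWeyl D) {S : Subgroup (GL D.Idx F)}
    (h1 : ∀ i t, X hW.good (pRoot hW i) t ∈ S)
    (h2 : ∀ i t, X hW.good (pRoot hW i).rev t ∈ S) : D.group F ≤ S := by
  have hn : ∀ i, nR hW i ∈ S := fun i => mul_mem (mul_mem (h1 i 1) (h2 i (-1))) (h1 i 1)
  have key : ∀ r, ∀ t, X hW.good r t ∈ S :=
    hW.root_induction (P := fun r => ∀ t, X hW.good r t ∈ S) h1 fun i r hr t => by
      rw [X_wPerm_eq hW]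
      exact mul_mem (mul_mem (hn i) (hr _)) (inv_mem (hn i))
  rw [group_eq_closure hW.good, Subgroup.closure_le]
  rintro _ ⟨r, t, rfl⟩
  exact key r t

theorem pos_sup_neg (hD : Good D) : D.posUnipotent F ⊔ D.negUnipotent F = D.group F := by
  rw [posUnipotent_eq_closure hD, negUnipotent_eq_closure hD, group_eq_closure hD,
    ← Subgroup.closure_union]
  congr 1
  ext g
  simp only [Set.mem_union, Set.mem_ofPred_eq]
  constructor
  · rintro (⟨r, -, t, h⟩ | ⟨r, -, t, h⟩) <;> exact ⟨r, t, h⟩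
  · rintro ⟨r, t, h⟩
    rcases Nat.lt_or_ge (r : ℕ) (half D) with hr | hr
    · exact Or.inr ⟨r, hr, t, h⟩
    · exact Or.inl ⟨r, hr, t, h⟩

/-- The group generated by the fundamental reflections on the roots. -/
def reflGroup (hW : GoodWeyl D) : Subgroup (Equiv.Perm (Root D)) :=
  Subgroup.closure (Set.range (wPerm hW))

/-- The coefficient of a root on a fundamental coroot. -/
def co (D : ChevalleyDatum) (r : Root D) (k : Fin D.rank) : ℤ := (D.coroot.getD r #[]).getD k 0

theorem co_wPerm (hW : GoodWeyl D) (i : Fin D.rank) (r : Root D) (k : Fin D.rank) :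
    co D (wPerm hW i r) k = co D r k - if i = k then D.pairing r (pRoot hW i) else 0 := by
  have h := (((hW.refl_facts i).2.2.2.2 r r.isLt).2.2.2.2.2.2.2 k k.isLt).2
  rw [coT_eq, coT_eq] at h
  refine Eq.trans h (congrArg₂ _ rfl (if_congr Fin.ext_iff.symm ?_ rfl))
  rw [ChevalleyDatum.pairing]
  congr 1
  apply List.map_congr_left
  intro l hl
  rw [coT_eq, hW.good.cartanT_eq (List.mem_range.1 hl) (hW.good.simple_lt i.isLt)]
  rfl

theorem co_pRoot (hW : GoodWeyl D) (i k : Fin D.rank) :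
    co D (pRoot hW i) k = if i = k then 1 else 0 := by
  rw [co, show ((pRoot hW i : Root D) : ℕ) = D.simple i from rfl,
    hW.good.coroot_simple i.isLt k.isLt]
  exact if_congr Fin.ext_iff.symm rfl rfl

/-- The fundamental reflection group acts linearly on the coroots. -/
theorem co_linear (hW : GoodWeyl D) {w : Equiv.Perm (Root D)} (hw : w ∈ reflGroup hW) (r : Root D)
    (k : Fin D.rank) : co D (w r) k = ∑ j, co D r j * co D (w (pRoot hW j)) k := by
  suffices H : ∀ i r k, co D (wPerm hW i r) k =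
      ∑ j, co D r j * co D (wPerm hW i (pRoot hW j)) k by
    have step : ∀ (i : Fin D.rank) (v : Equiv.Perm (Root D)),
        (∀ r k, co D (v r) k = ∑ j, co D r j * co D (v (pRoot hW j)) k) →
        ∀ r k, co D ((wPerm hW i * v) r) k =
          ∑ j, co D r j * co D ((wPerm hW i * v) (pRoot hW j)) k := by
      intro i v ih r k
      simp only [Equiv.Perm.mul_apply]
      rw [H i]
      simp only [ih r, Finset.sum_mul, mul_assoc]
      rw [Finset.sum_comm]
      exact Finset.sum_congr rfl fun j _ => by rw [H i (v (pRoot hW j)), Finset.mul_sum]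
    revert r k
    induction hw using Subgroup.closure_induction_left with
    | one => intro r k; simp [co_pRoot hW]
    | mul_left x hx v _ ih =>
      obtain ⟨i, rfl⟩ := hx
      exact step i v ih
    | inv_mul_cancel x hx v _ ih =>
      obtain ⟨i, rfl⟩ := hx
      rw [show (wPerm hW i)⁻¹ = wPerm hW i from rfl]
      exact step i v ih
  intro i r k
  have hp : ∀ j, D.pairing (pRoot hW j) (pRoot hW i) = D.cartan j (pRoot hW i) := fun j =>
    hW.pairing_pRoot j _
  simp only [co_wPerm hW, co_pRoot hW, hp, mul_sub, mul_ite, mul_one, mul_zero,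
    Finset.sum_sub_distrib, Finset.sum_ite_eq', Finset.mem_univ, if_true]
  congr 1
  split_ifs with h
  · rw [pairing_eq_sum]; rfl
  · simp

theorem co_sign_iff (hD : Good D) (r : Root D) :
    (half D ≤ r ↔ ∀ k, 0 ≤ co D r k) ∧ ((r : ℕ) < half D ↔ ∀ k, co D r k ≤ 0) := by
  have hlen : (D.coroot.getD r #[]).toList.length = D.rank := by
    rw [← coTrie_get]; exact hD.coTrie_length r.isLt
  have hmem : ∀ P : ℤ → Prop, (∀ c ∈ (D.coroot.getD r #[]).toList, P c) ↔ ∀ k, P (co D r k) := by
    intro P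
    constructor
    · intro h k
      refine h _ ?_
      have hk : (k : ℕ) < (D.coroot.getD r #[]).toList.length := by rw [hlen]; exact k.isLt
      rw [show co D r k = (D.coroot.getD r #[]).toList.getD k 0 by
        simp [co, Array.getD_eq_getD_getElem?, List.getD_eq_getElem?_getD],
        List.getD_eq_getElem _ _ hk]
      exact List.getElem_mem hk
    · intro h c hc
      obtain ⟨n, hn, rfl⟩ := List.getElem_of_mem hc
      have := h ⟨n, hlen ▸ hn⟩
      rwa [show co D r ⟨n, hlen ▸ hn⟩ = (D.coroot.getD r #[]).toList.getD n 0 by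
        simp [co, Array.getD_eq_getD_getElem?, List.getD_eq_getElem?_getD],
        List.getD_eq_getElem _ _ hn] at this
  refine ⟨?_, ?_⟩
  · rw [← hmem fun c => 0 ≤ c]
    exact ⟨fun h => (hD.isPosRoot_iff.2 ⟨h, r.isLt⟩).2,
      fun h => (hD.isPosRoot_iff.1 ⟨r.isLt, h⟩).1⟩
  · rw [← hmem fun c => c ≤ 0]
    exact ⟨fun h => (hD.isNegRoot_iff.2 h).2, fun h => hD.isNegRoot_iff.1 ⟨r.isLt, h⟩⟩

/-- Some element of the reflection group exchanges the positive and negative roots. -/
theorem exists_all_neg (hW : GoodWeyl D) :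
    ∃ w ∈ reflGroup hW, ∀ r : Root D, half D ≤ r ↔ (w r : ℕ) < half D := by
  classical
  let bad : Equiv.Perm (Root D) → Finset (Root D) :=
    fun w => Finset.univ.filter fun r => half D ≤ r ∧ half D ≤ w r
  have hbad : ∀ v r, r ∈ bad v ↔ half D ≤ r ∧ half D ≤ v r := fun v r => by simp [bad]
  obtain ⟨⟨w, hw⟩, hmin⟩ := Finite.exists_min (fun w : reflGroup hW => (bad w).card)
  have hsimple : ∀ i, (w (pRoot hW i) : ℕ) < half D := by
    intro i
    by_contra hi
    rw [Nat.not_lt] at hi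
    have hm := hmin ⟨w * wPerm hW i, mul_mem hw (Subgroup.subset_closure ⟨i, rfl⟩)⟩
    have hp : half D ≤ (pRoot hW i : ℕ) := hW.good.half_le_simple i.isLt
    have hlt : ((bad (w * wPerm hW i)).image (wPerm hW i)).card < (bad w).card := by
      refine Finset.card_lt_card (Finset.ssubset_iff_of_subset ?_ |>.2 ⟨pRoot hW i, ?_, ?_⟩)
      · intro s hs
        obtain ⟨r, hr, rfl⟩ := Finset.mem_image.1 hs
        simp only [hbad, Equiv.Perm.mul_apply] at hr ⊢
        refine ⟨(hW.wPerm_pos i hr.1 ?_).1, hr.2⟩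
        rintro rfl
        have h1 := hr.2
        rw [hW.wPerm_pRoot] at h1
        have hl : co D (w (pRoot hW i).rev) = fun k => - co D (w (pRoot hW i)) k := by
          funext k
          rw [co_linear hW hw, co_linear hW hw (pRoot hW i), ← Finset.sum_neg_distrib]
          refine Finset.sum_congr rfl fun j _ => ?_
          rw [show co D (pRoot hW i).rev j = - co D (pRoot hW i) j from
            hW.good.coroot_rev _ _, neg_mul]
        have hn : ((w (pRoot hW i).rev : Root D) : ℕ) < half D :=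
          (co_sign_iff hW.good _).2.2 fun k => by
            rw [hl]; simpa using (co_sign_iff hW.good _).1.1 hi k
        omega
      · exact (hbad _ _).2 ⟨hp, hi⟩
      · intro hmem
        obtain ⟨r, hr, hre⟩ := Finset.mem_image.1 hmem
        have : r = (pRoot hW i).rev := by
          rw [← hW.wPerm_pRoot, ← hre, hW.wPerm_wPerm]
        subst this
        rw [hbad] at hr
        have := hW.good.two_half
        rw [Fin.val_rev] at hr
        omega
    rw [Finset.card_image_of_injective _ (wPerm hW i).injective] at hlt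
    simp only at hm
    omega
  refine ⟨w, hw, fun r => ?_⟩
  rw [(co_sign_iff hW.good r).1, (co_sign_iff hW.good _).2]
  refine ⟨fun h k => ?_, fun h k => ?_⟩
  · rw [co_linear hW hw]
    exact Finset.sum_nonpos fun j _ =>
      mul_nonpos_of_nonneg_of_nonpos (h j) ((co_sign_iff hW.good _).2.1 (hsimple j) k)
  · by_contra hk
    have hneg : (r : ℕ) < half D := by
      by_contra hr
      exact hk ((co_sign_iff hW.good r).1.1 (Nat.le_of_not_lt hr) k)
    have hall : ∀ k, 0 ≤ co D (w r) k := fun k => by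
      rw [co_linear hW hw]
      exact Finset.sum_nonneg fun j _ =>
        mul_nonneg_of_nonpos_of_nonpos ((co_sign_iff hW.good r).2.1 hneg j)
          ((co_sign_iff hW.good _).2.1 (hsimple j) k)
    have h1 := (co_sign_iff hW.good _).1.2 hall
    have h2 := (co_sign_iff hW.good _).2.2 h
    omega

/-- Every element of the reflection group is realized in the monomial subgroup. -/
theorem exists_realize (hW : GoodWeyl D) {w : Equiv.Perm (Root D)} (hw : w ∈ reflGroup hW) :
    ∃ n ∈ D.monomialSubgroup F, ∀ r, ∃ e : Fˣ, ∀ t,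
      n * X hW.good r t * n⁻¹ = X hW.good (w r) ((e : F) * t) := by
  have step : ∀ (i : Fin D.rank) (v : Equiv.Perm (Root D)),
      (∃ n ∈ D.monomialSubgroup F, ∀ r, ∃ e : Fˣ, ∀ t,
        n * X hW.good r t * n⁻¹ = X hW.good (v r) ((e : F) * t)) →
      ∃ n ∈ D.monomialSubgroup F, ∀ r, ∃ e : Fˣ, ∀ t,
        n * X hW.good r t * n⁻¹ = X hW.good ((wPerm hW i * v) r) ((e : F) * t) := by
    rintro i v ⟨n, hn, h⟩
    refine ⟨nR hW i * n, mul_mem (nR_mem_monomial hW i) hn, fun r => ?_⟩
    obtain ⟨e, he⟩ := h r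
    obtain ⟨c, hc⟩ := eta_isUnit (F := F) hW i (v r)
    refine ⟨c * e, fun t => ?_⟩
    rw [show nR hW i * n * X hW.good r t * (nR hW i * n)⁻¹ =
      nR hW i * (n * X hW.good r t * n⁻¹) * (nR hW i)⁻¹ by group, he, nR_conj, ← hc,
      Units.val_mul, mul_assoc]
    rfl
  induction hw using Subgroup.closure_induction_left with
  | one => exact ⟨1, one_mem _, fun r => ⟨1, fun t => by simp⟩⟩
  | mul_left x hx v _ ih => obtain ⟨i, rfl⟩ := hx; exact step i v ih
  | inv_mul_cancel x hx v _ ih =>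
    obtain ⟨i, rfl⟩ := hx
    rw [show (wPerm hW i)⁻¹ = wPerm hW i from rfl]
    exact step i v ih

theorem exists_conj_pos_eq_neg (hW : GoodWeyl D) :
    ∃ n ∈ D.monomialSubgroup F,
      (D.posUnipotent F).map (MulAut.conj n).toMonoidHom = D.negUnipotent F := by
  obtain ⟨w, hw, hwn⟩ := exists_all_neg hW
  obtain ⟨n, hn, hconj⟩ := exists_realize (F := F) hW hw
  refine ⟨n, hn, ?_⟩
  rw [posUnipotent_eq_closure hW.good, negUnipotent_eq_closure hW.good, MonoidHom.map_closure]
  congr 1
  ext g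
  constructor
  · rintro ⟨_, ⟨r, hr, t, rfl⟩, rfl⟩
    obtain ⟨e, he⟩ := hconj r
    exact ⟨w r, (hwn r).1 hr, _, (he t).symm⟩
  · rintro ⟨r, hr, t, rfl⟩
    obtain ⟨e, he⟩ := hconj (w.symm r)
    refine ⟨_, ⟨w.symm r, (hwn _).2 (by rwa [Equiv.apply_symm_apply]),
      ((e⁻¹ : Fˣ) : F) * t, rfl⟩, ?_⟩
    rw [MulEquiv.coe_toMonoidHom, MulAut.conj_apply, he, Equiv.apply_symm_apply, ← mul_assoc,
      Units.mul_inv, one_mul]

/-- The subgroup of the positive root elements other than those of a fundamental root. -/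
def uSimple (D : ChevalleyDatum) (F : Type*) [Field F] (p : ℕ) : Subgroup (GL D.Idx F) :=
  Subgroup.closure {g : GL D.Idx F | ∃ (s : ℕ) (t : F), D.IsPosRoot s ∧ s ≠ p ∧
    (g : Matrix D.Idx D.Idx F) = D.x F s t}

theorem X_mem_uSimple (hW : GoodWeyl D) {i : Fin D.rank} {r : Root D} (hr : half D ≤ r)
    (hne : r ≠ pRoot hW i) (t : F) : X hW.good r t ∈ uSimple D F (D.simple i) :=
  Subgroup.subset_closure ⟨r, t, hW.good.isPosRoot_iff.2 ⟨hr, r.isLt⟩,
    fun e => hne (Fin.ext e), (coe_eq_x_iff hW.good r.isLt).2 rfl⟩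

theorem nR_conj_uSimple (hW : GoodWeyl D) (i : Fin D.rank) {g : GL D.Idx F}
    (hg : g ∈ uSimple D F (D.simple i)) :
    nR hW i * g * (nR hW i)⁻¹ ∈ uSimple D F (D.simple i) := by
  induction hg using Subgroup.closure_induction with
  | mem x hx =>
    obtain ⟨s, t, hs, hne, h⟩ := hx
    obtain ⟨h1, h2⟩ := hW.good.isPosRoot_iff.1 hs
    rw [(coe_eq_x_iff hW.good h2).1 h, nR_conj]
    obtain ⟨h3, h4⟩ := hW.wPerm_pos i (s := ⟨s, h2⟩) h1 (fun e => hne (congrArg Fin.val e))
    exact X_mem_uSimple hW h3 h4 _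
  | one => simp
  | mul x y _ _ hx hy =>
    rw [show nR hW i * (x * y) * (nR hW i)⁻¹ =
      (nR hW i * x * (nR hW i)⁻¹) * (nR hW i * y * (nR hW i)⁻¹) by group]
    exact mul_mem hx hy
  | inv x _ hx =>
    rw [show nR hW i * x⁻¹ * (nR hW i)⁻¹ = (nR hW i * x * (nR hW i)⁻¹)⁻¹ by group]
    exact inv_mem hx

theorem conj_uSimple (hW : GoodWeyl D) (i : Fin D.rank) (v : F) {g : GL D.Idx F}
    (hg : g ∈ uSimple D F (D.simple i)) :
    X hW.good (pRoot hW i) v * g * (X hW.good (pRoot hW i) v)⁻¹ ∈ uSimple D F (D.simple i) := by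
  induction hg using Subgroup.closure_induction with
  | mem x hx =>
    obtain ⟨s, t, hs, hne, h⟩ := hx
    obtain ⟨h1, h2⟩ := hW.good.isPosRoot_iff.1 hs
    rw [(coe_eq_x_iff hW.good h2).1 h]
    have hp : half D ≤ key false (pRoot hW i) := hW.good.half_le_simple i.isLt
    have hne' : pRoot hW i ≠ (⟨s, h2⟩ : Root D) := fun e => hne (congrArg Fin.val e).symm
    rw [X_comm hW.toGoodComm (⟨s, h2⟩ : Root D) (pRoot hW i) hne'
        (hW.good.rev_ne_of_key (b := false) h1 hp) t v,
      show ∀ p q W : GL D.Idx F, p * q * W * q⁻¹ = p * (q * W * q⁻¹) from fun p q W => by group]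
    refine mul_mem (X_mem_uSimple hW h1 (Ne.symm hne') t) ?_
    have hle : uGe hW.good F false (D.simple i + 1) ≤ uSimple D F (D.simple i) := by
      rw [uGe, Subgroup.closure_le]
      rintro _ ⟨r, hr, hr', u, rfl⟩
      refine X_mem_uSimple hW hr (fun e => ?_) u
      subst e
      exact absurd hr' (by simp [key, genR, gen])
    exact hle (conj_mem_uGe hW.toGoodComm hp v _
      (commRhs_mem_uGe hW.toGoodComm (b := false) (r := ⟨s, h2⟩) h1 hp (Or.inr le_rfl) t v))
  | one => simp
  | mul x y _ _ hx hy =>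
    rw [show ∀ q x y : GL D.Idx F, q * (x * y) * q⁻¹ = (q * x * q⁻¹) * (q * y * q⁻¹) from
      fun q x y => by group]
    exact mul_mem hx hy
  | inv x _ hx =>
    rw [show ∀ q x : GL D.Idx F, q * x⁻¹ * q⁻¹ = (q * x * q⁻¹)⁻¹ from fun q x => by group]
    exact inv_mem hx

theorem rootSubgroups_le_normalizer (hW : GoodWeyl D) (i : Fin D.rank) :
    D.rootSubgroup F (D.simple i) ⊔ D.rootSubgroup F (D.neg (D.simple i)) ≤
      Subgroup.normalizer (uSimple D F (D.simple i) : Set (GL D.Idx F)) := by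
  have hp : ∀ v, X hW.good (pRoot hW i) v ∈
      Subgroup.normalizer (uSimple D F (D.simple i) : Set (GL D.Idx F)) := by
    intro v
    refine Subgroup.mem_normalizer_iff.2 fun x => ⟨conj_uSimple hW i v, fun hx => ?_⟩
    have := conj_uSimple hW i (-v) hx
    rwa [← X_inv, show ∀ q h : GL D.Idx F, q⁻¹ * (q * h * q⁻¹) * q⁻¹⁻¹ = h from
      fun q h => by group] at this
  have hn : nR hW i ∈ Subgroup.normalizer (uSimple D F (D.simple i) : Set (GL D.Idx F)) := by
    refine Subgroup.mem_normalizer_iff.2 fun x => ⟨nR_conj_uSimple hW i, fun hx => ?_⟩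
    have h := nR_conj_uSimple hW i hx
    have hc : ((nR hW i * nR hW i : GL D.Idx F)) ∈
        Subgroup.normalizer (uSimple D F (D.simple i) : Set (GL D.Idx F)) := by
      rw [nR_sq hW]
      have := diagonal_le_normalizer (F := F) hW (fun s => D.IsPosRoot s ∧ s ≠ D.simple i)
        (hT_mem_diagonal hW (pRoot hW i) (-1))
      have e : {g : GL D.Idx F | ∃ (r : ℕ) (t : F), r < D.nroots ∧
          (D.IsPosRoot r ∧ r ≠ D.simple i) ∧ (g : Matrix D.Idx D.Idx F) = D.x F r t} =
          {g : GL D.Idx F | ∃ (r : ℕ) (t : F), D.IsPosRoot r ∧ r ≠ D.simple i ∧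
            (g : Matrix D.Idx D.Idx F) = D.x F r t} := by
        ext g
        exact ⟨fun ⟨r, t, _, h, h'⟩ => ⟨r, t, h.1, h.2, h'⟩,
          fun ⟨r, t, h1, h2, h'⟩ => ⟨r, t, h1.1, ⟨h1, h2⟩, h'⟩⟩
      rw [e] at this
      exact this
    rw [show nR hW i * (nR hW i * x * (nR hW i)⁻¹) * (nR hW i)⁻¹ =
      (nR hW i * nR hW i) * x * (nR hW i * nR hW i)⁻¹ by group] at h
    exact (Subgroup.mem_normalizer_iff.1 hc x).2 h
  refine sup_le ?_ ?_
  · intro g hg
    obtain ⟨t, rfl⟩ := (mem_rootSubgroup_iff hW.good (r := pRoot hW i)).1 hg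
    exact hp t
  · intro g hg
    have hrev : D.neg (D.simple i) = ((pRoot hW i).rev : ℕ) := hW.good.neg_fin (pRoot hW i)
    rw [hrev] at hg
    obtain ⟨t, rfl⟩ := (mem_rootSubgroup_iff hW.good).1 hg
    rw [← hW.wPerm_pRoot, X_wPerm_eq hW]
    exact mul_mem (mul_mem hn (hp _)) (inv_mem hn)

theorem uSimple_sup (hW : GoodWeyl D) (i : Fin D.rank) :
    uSimple D F (D.simple i) ⊔ D.rootSubgroup F (D.simple i) = D.posUnipotent F := by
  refine le_antisymm (sup_le ((Subgroup.closure_le _).2 ?_) ((Subgroup.closure_le _).2 ?_))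
    ((Subgroup.closure_le _).2 ?_)
  · exact fun g ⟨s, t, hs, _, h⟩ => Subgroup.subset_closure ⟨s, t, hs, h⟩
  · exact fun g ⟨t, h⟩ => Subgroup.subset_closure
      ⟨D.simple i, t, hW.good.isPosRoot_iff.2 ⟨hW.good.half_le_simple i.isLt, hW.good.simple_lt i.isLt⟩, h⟩
  · rintro g ⟨s, t, hs, h⟩
    by_cases hp : s = D.simple i
    · subst hp; exact Subgroup.mem_sup_right (Subgroup.subset_closure ⟨t, h⟩)
    · exact Subgroup.mem_sup_left (Subgroup.subset_closure ⟨s, t, hs, hp, h⟩)

end CfsgLib.ChevTorus
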