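import Cfsg.Agent.ChevTorus.Scaling
import Cfsg.Prelude.Def_ChevG2
import Cfsg.Prelude.Def_ChevB2
import Cfsg.Prelude.Def_ChevD4
import Cfsg.Prelude.Def_ChevF4
import Cfsg.Prelude.Def_ChevE6
import Cfsg.Prelude.Def_ChevE7
import Cfsg.Prelude.Def_ChevE8
import Mathlib.GroupTheory.SpecificGroups.Cyclic
import Mathlib.LinearAlgebra.Matrix.Notation
import Mathlib.RingTheory.IntegralDomain

/-!
# The order of the diagonal subgroup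
-/

set_option autoImplicit false

namespace CfsgLib.ChevTorus

open Cfsg.Lie CfsgLib.Chevalley

variable {ι : Type*} [Fintype ι] {G : Type*} [CommGroup G]

/-- An integer matrix acting on tuples of a commutative group by monomials. -/
def monAct (M : Matrix ι ι ℤ) : (ι → G) →* (ι → G) where
  toFun c j := ∏ k, c k ^ M k j
  map_one' := by funext j; simp
  map_mul' c d := by funext j; simp [mul_zpow, Finset.prod_mul_distrib]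

theorem monAct_mul (M N : Matrix ι ι ℤ) (c : ι → G) :
    monAct (M * N) c = monAct N (monAct M c) := by
  funext j
  simp only [monAct, MonoidHom.coe_mk, OneHom.coe_mk, Matrix.mul_apply]
  simp only [← Finset.prod_zpow, ← zpow_mul]
  rw [Finset.prod_comm]
  refine Finset.prod_congr rfl fun k _ => ?_
  induction (Finset.univ : Finset ι) using Finset.cons_induction with
  | empty => simp
  | cons a S ha ih => rw [Finset.sum_cons, Finset.prod_cons, zpow_add, ih]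

theorem monAct_diagonal [DecidableEq ι] (d : ι → ℕ) (c : ι → G) :
    monAct (Matrix.diagonal fun i => (d i : ℤ)) c = fun j => c j ^ d j := by
  funext j
  simp only [monAct, MonoidHom.coe_mk, OneHom.coe_mk]
  rw [Finset.prod_eq_single j]
  · simp
  · intro k _ hk; simp [Matrix.diagonal_apply_ne _ hk]
  · simp

theorem monAct_one [DecidableEq ι] (c : ι → G) : monAct (1 : Matrix ι ι ℤ) c = c := by
  have := monAct_diagonal (fun _ => 1) c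
  simpa using this

/-- The kernel of a monomial map, from its Smith normal form. -/
theorem card_ker_monAct [DecidableEq ι] [Finite G] [IsCyclic G] {A P P' Q Q' : Matrix ι ι ℤ}
    {d : ι → ℕ} (h : P * P' = 1 ∧ P' * P = 1 ∧ Q * Q' = 1 ∧
      P * A * Q = Matrix.diagonal fun i => (d i : ℤ)) :
    Nat.card (monAct (G := G) A).ker = ∏ i, (Nat.card G).gcd (d i) := by
  obtain ⟨hP, hP', hQ, hd⟩ := h
  let e : (monAct (G := G) A).ker ≃ (∀ i, (powMonoidHom (d i) : G →* G).ker) :=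
    { toFun := fun c i => ⟨monAct P' c.1 i, by
        have hc : monAct A c.1 = 1 := c.2
        have : monAct (Matrix.diagonal fun i => (d i : ℤ)) (monAct P' c.1) = 1 := by
          rw [← hd, monAct_mul, monAct_mul, ← monAct_mul P' P, hP', monAct_one, hc, map_one]
        rw [monAct_diagonal] at this
        exact congrFun this i⟩
      invFun := fun x => ⟨monAct P fun i => (x i).1, by
        show monAct A _ = 1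
        have h1 : monAct (P * A * Q) (fun i => (x i).1) = 1 := by
          rw [hd, monAct_diagonal]; funext i; exact (x i).2
        rw [monAct_mul, monAct_mul] at h1
        have h2 := congrArg (monAct Q') h1
        rwa [← monAct_mul, hQ, monAct_one, map_one] at h2⟩
      left_inv := fun c => Subtype.ext (by
        show monAct P (monAct P' c.1) = c.1
        rw [← monAct_mul, hP', monAct_one])
      right_inv := fun x => funext fun i => Subtype.ext (by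
        show monAct P' (monAct P fun i => (x i).1) i = (x i).1
        rw [← monAct_mul, hP, monAct_one]) }
  rw [Nat.card_congr e, Nat.card_pi]
  exact Finset.prod_congr rfl fun i _ => IsCyclic.card_powMonoidHom_ker G (d i)

variable {D : ChevalleyDatum} {F : Type*} [Field F]

/-- The Cartan matrix of a datum. -/
def cartanMat (D : ChevalleyDatum) : Matrix (Fin D.rank) (Fin D.rank) ℤ :=
  Matrix.of fun k j => D.cartan k (D.simple j)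

theorem torVal_pRoot (hW : GoodWeyl D) (c : Fin D.rank → Fˣ) (j : Fin D.rank) :
    torVal c (Sum.inr (pRoot hW j)) = monAct (cartanMat D) c j := by
  simp [torVal, monAct, cartanMat, genR, gen]

theorem torC_eq_one_iff (hW : GoodWeyl D) (c : Fin D.rank → Fˣ) :
    torC D c = (1 : GL D.Idx F) ↔ monAct (cartanMat D) c = 1 := by
  constructor
  · intro h
    funext j
    have h1 := congrArg (fun g : GL D.Idx F =>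
      (g : Matrix D.Idx D.Idx F) (Sum.inr (pRoot hW j)) (Sum.inr (pRoot hW j))) h
    simp only [coe_torC, Matrix.diagonal_apply_eq, Units.val_one, Matrix.one_apply_eq] at h1
    rw [← torVal_pRoot hW]
    exact Units.ext h1
  · intro h
    have key : ∀ r : Root D, torVal c (Sum.inr r) = 1 :=
      hW.root_induction (P := fun r => torVal c (Sum.inr r) = 1)
        (fun i => by rw [torVal_pRoot hW, h]; rfl) fun i r hr => by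
          have e : torVal c (Sum.inr (wPerm hW i r)) =
              torVal c (Sum.inr r) * torVal c (Sum.inr (pRoot hW i)) ^ (-D.cartan i r) := by
            simp only [torVal, ← Finset.prod_zpow, ← Finset.prod_mul_distrib, ← zpow_mul,
              ← zpow_add, wt_inr, hW.cartan_wPerm]
            exact Finset.prod_congr rfl fun k _ => by congr 1; ring
          rw [e, hr, torVal_pRoot hW, h, Pi.one_apply, one_zpow, one_mul]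
    apply Units.ext
    rw [coe_torC, Units.val_one, ← Matrix.diagonal_one]
    congr 1
    funext a
    rcases a with i | r
    · simp [torVal]
    · simp [key]

theorem card_diagonalSubgroup (hW : GoodWeyl D) [Fintype F]
    {P P' Q Q' : Matrix (Fin D.rank) (Fin D.rank) ℤ} {d : Fin D.rank → ℕ}
    (h : P * P' = 1 ∧ P' * P = 1 ∧ Q * Q' = 1 ∧
      P * cartanMat D * Q = Matrix.diagonal fun i => (d i : ℤ)) :
    (∏ i, (Fintype.card F - 1).gcd (d i)) * Nat.card (D.diagonalSubgroup F) =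
      (Fintype.card F - 1) ^ D.rank := by
  classical
  rw [diagonalSubgroup_eq_range hW]
  have hu : Nat.card Fˣ = Fintype.card F - 1 := by
    rw [Nat.card_units, Nat.card_eq_fintype_card]
  have hk : (torHom D F).ker = (monAct (G := Fˣ) (cartanMat D)).ker := by
    ext c; exact torC_eq_one_iff hW c
  have h1 := card_ker_monAct (G := Fˣ) h
  rw [← hk, hu] at h1
  rw [← h1, ← Subgroup.index_ker, Subgroup.card_mul_index, Nat.card_pi]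
  simp only [hu, Finset.prod_const, Finset.card_univ, Fintype.card_fin]

theorem smithG2 :
    (!![0, -1; 1, 2] : Matrix (Fin 2) (Fin 2) ℤ) *
      (!![2, 1; -1, 0] : Matrix (Fin 2) (Fin 2) ℤ) = 1 ∧
    (!![2, 1; -1, 0] : Matrix (Fin 2) (Fin 2) ℤ) *
      (!![0, -1; 1, 2] : Matrix (Fin 2) (Fin 2) ℤ) = 1 ∧
    (!![1, 2; 0, 1] : Matrix (Fin 2) (Fin 2) ℤ) *
      (!![1, -2; 0, 1] : Matrix (Fin 2) (Fin 2) ℤ) = 1 ∧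
    (!![0, -1; 1, 2] : Matrix (Fin 2) (Fin 2) ℤ) * (Matrix.of fun k j : Fin 2 => chevG2.cartan k (chevG2.simple j)) *
      (!![1, 2; 0, 1] : Matrix (Fin 2) (Fin 2) ℤ) = Matrix.diagonal fun i => ((![1, 1] : Fin 2 → ℕ) i : ℤ) := by
  decide +kernel

theorem smithB2 :
    (!![0, -1; 1, 2] : Matrix (Fin 2) (Fin 2) ℤ) *
      (!![2, 1; -1, 0] : Matrix (Fin 2) (Fin 2) ℤ) = 1 ∧
    (!![2, 1; -1, 0] : Matrix (Fin 2) (Fin 2) ℤ) *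
      (!![0, -1; 1, 2] : Matrix (Fin 2) (Fin 2) ℤ) = 1 ∧
    (!![1, 2; 0, 1] : Matrix (Fin 2) (Fin 2) ℤ) *
      (!![1, -2; 0, 1] : Matrix (Fin 2) (Fin 2) ℤ) = 1 ∧
    (!![0, -1; 1, 2] : Matrix (Fin 2) (Fin 2) ℤ) * (Matrix.of fun k j : Fin 2 => chevB2.cartan k (chevB2.simple j)) *
      (!![1, 2; 0, 1] : Matrix (Fin 2) (Fin 2) ℤ) = Matrix.diagonal fun i => ((![1, 2] : Fin 2 → ℕ) i : ℤ) := by
  decide +kernel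

theorem smithD4 :
    (!![-1, 0, 0, 0; -2, -1, 0, 0; -3, -2, -1, 0; 2, 2, 1, 1] : Matrix (Fin 4) (Fin 4) ℤ) *
      (!![-1, 0, 0, 0; 2, -1, 0, 0; -1, 2, -1, 0; -1, 0, 1, 1] : Matrix (Fin 4) (Fin 4) ℤ) = 1 ∧
    (!![-1, 0, 0, 0; 2, -1, 0, 0; -1, 2, -1, 0; -1, 0, 1, 1] : Matrix (Fin 4) (Fin 4) ℤ) *
      (!![-1, 0, 0, 0; -2, -1, 0, 0; -3, -2, -1, 0; 2, 2, 1, 1] : Matrix (Fin 4) (Fin 4) ℤ) = 1 ∧
    (!![0, 0, 0, 1; 1, 0, 0, 2; 0, 1, -1, 1; 0, 0, 1, 2] : Matrix (Fin 4) (Fin 4) ℤ) *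
      (!![-2, 1, 0, 0; -3, 0, 1, 1; -2, 0, 0, 1; 1, 0, 0, 0] : Matrix (Fin 4) (Fin 4) ℤ) = 1 ∧
    (!![-1, 0, 0, 0; -2, -1, 0, 0; -3, -2, -1, 0; 2, 2, 1, 1] : Matrix (Fin 4) (Fin 4) ℤ) * (Matrix.of fun k j : Fin 4 => chevD4.cartan k (chevD4.simple j)) *
      (!![0, 0, 0, 1; 1, 0, 0, 2; 0, 1, -1, 1; 0, 0, 1, 2] : Matrix (Fin 4) (Fin 4) ℤ) = Matrix.diagonal fun i => ((![1, 1, 2, 2] : Fin 4 → ℕ) i : ℤ) := by
  decide +kernel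

theorem smithF4 :
    (!![-1, 0, 0, 0; 1, 0, -1, 0; -2, -1, 0, 0; -2, -2, -2, -1] : Matrix (Fin 4) (Fin 4) ℤ) *
      (!![-1, 0, 0, 0; 2, 0, -1, 0; -1, -1, 0, 0; 0, 2, 2, -1] : Matrix (Fin 4) (Fin 4) ℤ) = 1 ∧
    (!![-1, 0, 0, 0; 2, 0, -1, 0; -1, -1, 0, 0; 0, 2, 2, -1] : Matrix (Fin 4) (Fin 4) ℤ) *
      (!![-1, 0, 0, 0; 1, 0, -1, 0; -2, -1, 0, 0; -2, -2, -2, -1] : Matrix (Fin 4) (Fin 4) ℤ) = 1 ∧
    (!![0, 0, 1, -2; 1, 0, 2, -4; 0, 0, 2, -3; 0, 1, 2, -2] : Matrix (Fin 4) (Fin 4) ℤ) *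
      (!![-2, 1, 0, 0; 2, 0, -2, 1; -3, 0, 2, 0; -2, 0, 1, 0] : Matrix (Fin 4) (Fin 4) ℤ) = 1 ∧
    (!![-1, 0, 0, 0; 1, 0, -1, 0; -2, -1, 0, 0; -2, -2, -2, -1] : Matrix (Fin 4) (Fin 4) ℤ) * (Matrix.of fun k j : Fin 4 => chevF4.cartan k (chevF4.simple j)) *
      (!![0, 0, 1, -2; 1, 0, 2, -4; 0, 0, 2, -3; 0, 1, 2, -2] : Matrix (Fin 4) (Fin 4) ℤ) = Matrix.diagonal fun i => ((![1, 1, 1, 1] : Fin 4 → ℕ) i : ℤ) := by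
  decide +kernel

theorem smithE6 :
    (!![-1, 0, 0, 0, 0, 0; 0, -1, 0, 0, 0, 0; 1, -2, 0, -1, 0, 0; 2, -3, 0, -2, -1, 0; -2, 1, -1, 0, 0, 0; -5, 0, -4, -3, -2, -1] : Matrix (Fin 6) (Fin 6) ℤ) *
      (!![-1, 0, 0, 0, 0, 0; 0, -1, 0, 0, 0, 0; 2, -1, 0, 0, -1, 0; -1, 2, -1, 0, 0, 0; 0, -1, 2, -1, 0, 0; 0, 0, -1, 2, 4, -1] : Matrix (Fin 6) (Fin 6) ℤ) = 1 ∧
    (!![-1, 0, 0, 0, 0, 0; 0, -1, 0, 0, 0, 0; 2, -1, 0, 0, -1, 0; -1, 2, -1, 0, 0, 0; 0, -1, 2, -1, 0, 0; 0, 0, -1, 2, 4, -1] : Matrix (Fin 6) (Fin 6) ℤ) *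
      (!![-1, 0, 0, 0, 0, 0; 0, -1, 0, 0, 0, 0; 1, -2, 0, -1, 0, 0; 2, -3, 0, -2, -1, 0; -2, 1, -1, 0, 0, 0; -5, 0, -4, -3, -2, -1] : Matrix (Fin 6) (Fin 6) ℤ) = 1 ∧
    (!![0, 0, 0, 0, 1, -2; 0, 0, 0, 0, 2, -3; 1, 0, 0, 0, 2, -4; 0, 1, 0, 0, 4, -6; 0, 0, 1, 0, 4, -5; 0, 0, 0, 1, 4, -4] : Matrix (Fin 6) (Fin 6) ℤ) *
      (!![-2, 0, 1, 0, 0, 0; 0, -2, 0, 1, 0, 0; 2, -3, 0, 0, 1, 0; 4, -4, 0, 0, 0, 1; -3, 2, 0, 0, 0, 0; -2, 1, 0, 0, 0, 0] : Matrix (Fin 6) (Fin 6) ℤ) = 1 ∧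
    (!![-1, 0, 0, 0, 0, 0; 0, -1, 0, 0, 0, 0; 1, -2, 0, -1, 0, 0; 2, -3, 0, -2, -1, 0; -2, 1, -1, 0, 0, 0; -5, 0, -4, -3, -2, -1] : Matrix (Fin 6) (Fin 6) ℤ) * (Matrix.of fun k j : Fin 6 => chevE6.cartan k (chevE6.simple j)) *
      (!![0, 0, 0, 0, 1, -2; 0, 0, 0, 0, 2, -3; 1, 0, 0, 0, 2, -4; 0, 1, 0, 0, 4, -6; 0, 0, 1, 0, 4, -5; 0, 0, 0, 1, 4, -4] : Matrix (Fin 6) (Fin 6) ℤ) = Matrix.diagonal fun i => ((![1, 1, 1, 1, 1, 3] : Fin 6 → ℕ) i : ℤ) := by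
  decide +kernel

theorem smithE7 :
    (!![-1, 0, 0, 0, 0, 0, 0; 0, -1, 0, 0, 0, 0, 0; 1, -2, 0, -1, 0, 0, 0; 2, -3, 0, -2, -1, 0, 0; 3, -4, 0, -3, -2, -1, 0; -2, 1, -1, 0, 0, 0, 0; -4, -1, -4, -4, -3, -2, -1] : Matrix (Fin 7) (Fin 7) ℤ) *
      (!![-1, 0, 0, 0, 0, 0, 0; 0, -1, 0, 0, 0, 0, 0; 2, -1, 0, 0, 0, -1, 0; -1, 2, -1, 0, 0, 0, 0; 0, -1, 2, -1, 0, 0, 0; 0, 0, -1, 2, -1, 0, 0; 0, 0, 0, -1, 2, 4, -1] : Matrix (Fin 7) (Fin 7) ℤ) = 1 ∧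
    (!![-1, 0, 0, 0, 0, 0, 0; 0, -1, 0, 0, 0, 0, 0; 2, -1, 0, 0, 0, -1, 0; -1, 2, -1, 0, 0, 0, 0; 0, -1, 2, -1, 0, 0, 0; 0, 0, -1, 2, -1, 0, 0; 0, 0, 0, -1, 2, 4, -1] : Matrix (Fin 7) (Fin 7) ℤ) *
      (!![-1, 0, 0, 0, 0, 0, 0; 0, -1, 0, 0, 0, 0, 0; 1, -2, 0, -1, 0, 0, 0; 2, -3, 0, -2, -1, 0, 0; 3, -4, 0, -3, -2, -1, 0; -2, 1, -1, 0, 0, 0, 0; -4, -1, -4, -4, -3, -2, -1] : Matrix (Fin 7) (Fin 7) ℤ) = 1 ∧
    (!![0, 0, 0, 0, 0, 1, -2; 0, 0, 0, 0, 0, 2, -3; 1, 0, 0, 0, 0, 2, -4; 0, 1, 0, 0, 0, 4, -6; 0, 0, 1, 0, 0, 4, -5; 0, 0, 0, 1, 0, 4, -4; 0, 0, 0, 0, 1, 4, -3] : Matrix (Fin 7) (Fin 7) ℤ) *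
      (!![-2, 0, 1, 0, 0, 0, 0; 0, -2, 0, 1, 0, 0, 0; 2, -3, 0, 0, 1, 0, 0; 4, -4, 0, 0, 0, 1, 0; 6, -5, 0, 0, 0, 0, 1; -3, 2, 0, 0, 0, 0, 0; -2, 1, 0, 0, 0, 0, 0] : Matrix (Fin 7) (Fin 7) ℤ) = 1 ∧
    (!![-1, 0, 0, 0, 0, 0, 0; 0, -1, 0, 0, 0, 0, 0; 1, -2, 0, -1, 0, 0, 0; 2, -3, 0, -2, -1, 0, 0; 3, -4, 0, -3, -2, -1, 0; -2, 1, -1, 0, 0, 0, 0; -4, -1, -4, -4, -3, -2, -1] : Matrix (Fin 7) (Fin 7) ℤ) * (Matrix.of fun k j : Fin 7 => chevE7.cartan k (chevE7.simple j)) *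
      (!![0, 0, 0, 0, 0, 1, -2; 0, 0, 0, 0, 0, 2, -3; 1, 0, 0, 0, 0, 2, -4; 0, 1, 0, 0, 0, 4, -6; 0, 0, 1, 0, 0, 4, -5; 0, 0, 0, 1, 0, 4, -4; 0, 0, 0, 0, 1, 4, -3] : Matrix (Fin 7) (Fin 7) ℤ) = Matrix.diagonal fun i => ((![1, 1, 1, 1, 1, 1, 2] : Fin 7 → ℕ) i : ℤ) := by
  decide +kernel

theorem smithE8 :
    (!![-1, 0, 0, 0, 0, 0, 0, 0; 0, -1, 0, 0, 0, 0, 0, 0; 1, -2, 0, -1, 0, 0, 0, 0; 2, -3, 0, -2, -1, 0, 0, 0; 3, -4, 0, -3, -2, -1, 0, 0; 4, -5, 0, -4, -3, -2, -1, 0; -2, 1, -1, 0, 0, 0, 0, 0; -3, -2, -4, -5, -4, -3, -2, -1] : Matrix (Fin 8) (Fin 8) ℤ) *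
      (!![-1, 0, 0, 0, 0, 0, 0, 0; 0, -1, 0, 0, 0, 0, 0, 0; 2, -1, 0, 0, 0, 0, -1, 0; -1, 2, -1, 0, 0, 0, 0, 0; 0, -1, 2, -1, 0, 0, 0, 0; 0, 0, -1, 2, -1, 0, 0, 0; 0, 0, 0, -1, 2, -1, 0, 0; 0, 0, 0, 0, -1, 2, 4, -1] : Matrix (Fin 8) (Fin 8) ℤ) = 1 ∧
    (!![-1, 0, 0, 0, 0, 0, 0, 0; 0, -1, 0, 0, 0, 0, 0, 0; 2, -1, 0, 0, 0, 0, -1, 0; -1, 2, -1, 0, 0, 0, 0, 0; 0, -1, 2, -1, 0, 0, 0, 0; 0, 0, -1, 2, -1, 0, 0, 0; 0, 0, 0, -1, 2, -1, 0, 0; 0, 0, 0, 0, -1, 2, 4, -1] : Matrix (Fin 8) (Fin 8) ℤ) *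
      (!![-1, 0, 0, 0, 0, 0, 0, 0; 0, -1, 0, 0, 0, 0, 0, 0; 1, -2, 0, -1, 0, 0, 0, 0; 2, -3, 0, -2, -1, 0, 0, 0; 3, -4, 0, -3, -2, -1, 0, 0; 4, -5, 0, -4, -3, -2, -1, 0; -2, 1, -1, 0, 0, 0, 0, 0; -3, -2, -4, -5, -4, -3, -2, -1] : Matrix (Fin 8) (Fin 8) ℤ) = 1 ∧
    (!![0, 0, 0, 0, 0, 0, 1, -2; 0, 0, 0, 0, 0, 0, 2, -3; 1, 0, 0, 0, 0, 0, 2, -4; 0, 1, 0, 0, 0, 0, 4, -6; 0, 0, 1, 0, 0, 0, 4, -5; 0, 0, 0, 1, 0, 0, 4, -4; 0, 0, 0, 0, 1, 0, 4, -3; 0, 0, 0, 0, 0, 1, 4, -2] : Matrix (Fin 8) (Fin 8) ℤ) *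
      (!![-2, 0, 1, 0, 0, 0, 0, 0; 0, -2, 0, 1, 0, 0, 0, 0; 2, -3, 0, 0, 1, 0, 0, 0; 4, -4, 0, 0, 0, 1, 0, 0; 6, -5, 0, 0, 0, 0, 1, 0; 8, -6, 0, 0, 0, 0, 0, 1; -3, 2, 0, 0, 0, 0, 0, 0; -2, 1, 0, 0, 0, 0, 0, 0] : Matrix (Fin 8) (Fin 8) ℤ) = 1 ∧
    (!![-1, 0, 0, 0, 0, 0, 0, 0; 0, -1, 0, 0, 0, 0, 0, 0; 1, -2, 0, -1, 0, 0, 0, 0; 2, -3, 0, -2, -1, 0, 0, 0; 3, -4, 0, -3, -2, -1, 0, 0; 4, -5, 0, -4, -3, -2, -1, 0; -2, 1, -1, 0, 0, 0, 0, 0; -3, -2, -4, -5, -4, -3, -2, -1] : Matrix (Fin 8) (Fin 8) ℤ) * (Matrix.of fun k j : Fin 8 => chevE8.cartan k (chevE8.simple j)) *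
      (!![0, 0, 0, 0, 0, 0, 1, -2; 0, 0, 0, 0, 0, 0, 2, -3; 1, 0, 0, 0, 0, 0, 2, -4; 0, 1, 0, 0, 0, 0, 4, -6; 0, 0, 1, 0, 0, 0, 4, -5; 0, 0, 0, 1, 0, 0, 4, -4; 0, 0, 0, 0, 1, 0, 4, -3; 0, 0, 0, 0, 0, 1, 4, -2] : Matrix (Fin 8) (Fin 8) ℤ) = Matrix.diagonal fun i => ((![1, 1, 1, 1, 1, 1, 1, 1] : Fin 8 → ℕ) i : ℤ) := by
  decide +kernel

end CfsgLib.ChevTorus
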