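import Mathlib
import Cfsg.Prelude.Def_ChevAutomorphisms
import Cfsg.Prelude.Def_ChevB2
import Cfsg.Prelude.Def_ChevD4
import Cfsg.Prelude.Def_ChevE6
import Cfsg.Prelude.Def_ChevE7
import Cfsg.Prelude.Def_ChevE8
import Cfsg.Prelude.Def_ChevF4
import Cfsg.Prelude.Def_ChevG2

/-!
# Diagonal matrices of root characters act on root elements
-/

set_option autoImplicit false

namespace CfsgLib.ChevTorus

open Cfsg.Lie

/-- The first term of the chain through `s` in a list of chain entries. -/
def firstOf (es : List (ℕ × Array (ℕ × ℤ))) (s : ℕ) : Option ℕ :=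
  ((es.find? (fun e => e.1 == s)).bind fun e => e.2.toList.head?).map Prod.fst

/-- Consecutive terms of a chain are joined by single steps. -/
def stepsOK (n : ℕ) (es : List (ℕ × Array (ℕ × ℤ))) : ℕ → List (ℕ × ℤ) → Bool
  | _, [] => true
  | prev, (u, _) :: rest => decide (prev < n) && (firstOf es prev == some u) && stepsOK n es u rest

/-- The table check. -/
def chainOK (D : ChevalleyDatum) : Bool :=
  D.chain.toList.all fun es => es.toList.all fun e => stepsOK D.nroots es.toList e.1 e.2.toList

theorem chainOK_of_mem {D : ChevalleyDatum} (hD : D ∈ [chevG2, chevB2, chevD4, chevF4, chevE6, chevE7, chevE8]) :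
    chainOK D = true := by
  simp only [List.mem_cons, List.mem_nil_iff, or_false] at hD
  rcases hD with rfl | rfl | rfl | rfl | rfl | rfl | rfl <;> decide +kernel

variable (D : ChevalleyDatum)

theorem chainRoot_one (r s : ℕ) : D.chainRoot r s 1 = firstOf (D.chain.getD r #[]).toList s := by
  unfold ChevalleyDatum.chainRoot ChevalleyDatum.chainEntry firstOf
  have hfun : (fun e : ℕ × Array (ℕ × ℤ) => e.1 == s) = (fun e => decide (e.1 = s)) := by
    funext e; by_cases h : e.1 = s <;> simp [h]
  rw [hfun]
  cases ((D.chain.getD r #[]).toList.find? fun e => decide (e.1 = s)) with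
  | none => rfl
  | some e => simp [List.head?_eq_getElem?]

theorem steps_char {F : Type*} [Field F] {χ : ℕ → Fˣ} (hχ : D.IsRootCharacter χ) {r : ℕ} (hr : r < D.nroots) :
    ∀ (l : List (ℕ × ℤ)) (prev : ℕ), stepsOK D.nroots (D.chain.getD r #[]).toList prev l = true →
      ∀ k p, l[k]? = some p → χ p.1 = χ r ^ (k + 1) * χ prev := by
  intro l
  induction l with
  | nil => intro prev _ k p h; simp at h
  | cons a rest ih =>
    obtain ⟨u, M⟩ := a
    intro prev hok k p h
    simp only [stepsOK, Bool.and_eq_true, decide_eq_true_eq, beq_iff_eq] at hok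
    obtain ⟨⟨hprev, hfirst⟩, hrest⟩ := hok
    have hstep : χ u = χ r * χ prev := hχ.2 r prev u hr hprev (by rw [chainRoot_one]; exact hfirst)
    cases k with
    | zero =>
      simp only [List.getElem?_cons_zero, Option.some.injEq] at h
      subst h
      simpa using hstep
    | succ k =>
      rw [List.getElem?_cons_succ] at h
      rw [ih u hrest k p h, hstep, pow_succ (χ r) (k + 1), mul_assoc]

theorem chainCoeff_char (hok : chainOK D = true) {F : Type*} [Field F] {χ : ℕ → Fˣ} (hχ : D.IsRootCharacter χ)
    {r : ℕ} (hr : r < D.nroots) (s u : ℕ) {km : ℕ × ℤ} (h : km ∈ D.chainCoeff r s u) :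
    χ u = χ r ^ km.1 * χ s := by
  unfold ChevalleyDatum.chainCoeff at h
  simp only [List.mem_flatMap, List.mem_filter, List.mem_map, decide_eq_true_eq] at h
  obtain ⟨e, ⟨he, hes⟩, ⟨⟨p, k⟩, ⟨hp, hpu⟩, rfl⟩⟩ := h
  have hes' : (D.chain.getD r #[]) ∈ D.chain.toList := by
    by_cases hlt : r < D.chain.size
    · simp [Array.getD, hlt]
    · simp [Array.getD, hlt] at he
  unfold chainOK at hok
  rw [List.all_eq_true] at hok
  have h1 := List.all_eq_true.1 (hok _ hes') e he
  rw [List.mem_zipIdx_iff_getElem?] at hp
  have h2 := steps_char D hχ hr _ _ h1 k p hp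
  rw [← hes, ← hpu]
  exact h2

theorem charDiag_conj_x (hok : chainOK D = true) {F : Type*} [Field F] (χ : ℕ → Fˣ) (hχ : D.IsRootCharacter χ)
    (r : ℕ) (hr : r < D.nroots) (t : F) :
    D.charDiag F χ * D.x F r t * D.charDiag F (fun s => (χ s)⁻¹) = D.x F r ((χ r : F) * t) := by
  have hneg : χ (D.negIdx.getD r 0) = (χ r)⁻¹ := hχ.1 r hr
  simp only [ChevalleyDatum.charDiag, ChevalleyDatum.x, dif_pos hr]
  ext i j
  rw [Matrix.mul_diagonal, Matrix.diagonal_mul]
  rcases i with i | u <;> rcases j with j | s <;>
    simp only [ChevalleyDatum.xMat, Matrix.of_apply, Sum.elim_inl, Sum.elim_inr, mul_one, one_mul]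
  · split_ifs with h1 h2
    · rw [zero_mul]
    · rw [show (s : ℕ) = D.negIdx.getD r 0 from h2, hneg, inv_inv]
      ring
    · rw [zero_mul]
  · split_ifs with h1
    · subst h1
      ring
    · rw [mul_zero]
  · by_cases hs : s = (⟨r, hr⟩ : Fin D.nroots)
    · subst hs
      simp only [if_true]
      split_ifs with h1
      · subst h1; simp
      · simp
    · simp only [if_neg hs]
      by_cases h2 : (s : ℕ) = D.negIdx.getD r 0
      · simp only [if_pos h2]
        split_ifs with h3 h4
        · subst h3; simp
        · subst h4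
          rw [h2, hneg, inv_inv]
          simp only
          ring
        · simp
      · simp only [if_neg h2]
        rw [mul_add, add_mul, ← List.sum_map_mul_left, ← List.sum_map_mul_right]
        congr 1
        · split_ifs with h3
          · subst h3; simp
          · simp
        · rw [List.map_congr_left fun km hkm => ?_]
          have h := chainCoeff_char D hok hχ hr s u hkm
          rw [h, Units.val_mul, Units.val_pow_eq_pow_val, Units.val_inv_eq_inv_val, mul_pow]
          field_simp

end CfsgLib.ChevTorus
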